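import Cfsg.Agent.Lib.J4Type.Frame
import Cfsg.Agent.Lib.Golay.Involutions

/-!
Every coset of order two of a subgroup of order `2^11` in its normaliser contains an involution, as soon
as the normaliser has two involutions outside it with different numbers of fixed points on it.
-/

set_option autoImplicit false

namespace CfsgLib.J4Type

open Subgroup

universe u

variable {G : Type u} [Group G] [Finite G] {z : G} {A : Subgroup G}

/-- The elements of `A` fixed by `y`. -/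
def fixIn (A : Subgroup G) (y : G) : Set G := {a | a ∈ A ∧ y * a * y⁻¹ = a}

/-- Two involutions of Mathieu's group that both have a fixed point, or both have none, are conjugate. -/
theorem m24_conj_of_type {g h : Equiv.Perm Cfsg.GolayPt} (hg : g ∈ Cfsg.M24) (hh : h ∈ Cfsg.M24)
    (hg2 : orderOf g = 2) (hh2 : orderOf h = 2) (e : (∃ p, g p = p) ↔ ∃ p, h p = p) :
    ∃ k ∈ Cfsg.M24, k * g * k⁻¹ = h := by
  classical
  have fix : ∀ {f : Equiv.Perm Cfsg.GolayPt}, (Finset.univ.filter fun p => f p = p) ∈ Cfsg.octads →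
      ∃ p, f p = p := by
    intro f hf
    obtain ⟨p, hp⟩ := Finset.card_pos.1 (by rw [CfsgLib.Golay.card_of_mem_octads hf]; norm_num)
    exact ⟨p, (Finset.mem_filter.1 hp).2⟩
  rcases CfsgLib.Golay.Invol.two_classes hg hg2 with ⟨og, k, hk, ek⟩ | ⟨og, k, hk, ek⟩ <;>
    rcases CfsgLib.Golay.Invol.two_classes hh hh2 with ⟨oh, l, hl, el⟩ | ⟨oh, l, hl, el⟩
  case inl.inr => obtain ⟨p, hp⟩ := e.1 (fix og); exact absurd hp (oh p)
  case inr.inl => obtain ⟨p, hp⟩ := e.2 (fix oh); exact absurd hp (og p)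
  all_goals
    refine ⟨l⁻¹ * k, mul_mem (inv_mem hl) hk, ?_⟩
    have := CfsgLib.Golay.toList_injective (ek.trans el.symm)
    calc l⁻¹ * k * g * (l⁻¹ * k)⁻¹ = l⁻¹ * (k * g * k⁻¹) * l := by group
      _ = l⁻¹ * (l * h * l⁻¹) * l := by rw [this]
      _ = h := by group

theorem VFrame.exists_conj_coset (h : VFrame z A) {y₁ y₂ : G}
    (h₁ : y₁ ∈ normalizer (A : Set G)) (h₂ : y₂ ∈ normalizer (A : Set G))
    (s₁ : y₁ * y₁ = 1) (s₂ : y₂ * y₂ = 1) (n₁ : y₁ ∉ A) (n₂ : y₂ ∉ A)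
    (hfix : (fixIn A y₁).ncard ≠ (fixIn A y₂).ncard)
    {x : G} (hx : x ∈ normalizer (A : Set G)) (hxA : x ∉ A) (hx2 : x * x ∈ A) :
    ∃ m ∈ normalizer (A : Set G), ∃ v ∈ A, m * x * m⁻¹ = v * y₁ ∨ m * x * m⁻¹ = v * y₂ := by
  classical
  obtain ⟨φ, hφ, hker, -⟩ := h.mathieuLocal.quot
  have kmem : ∀ w : ↥(normalizer (A : Set G)), φ w = 1 ↔ (w : G) ∈ A := fun w => by
    rw [← MonoidHom.mem_ker, hker]; rfl
  have ord : ∀ (w : ↥(normalizer (A : Set G))), (w : G) ∉ A → (w : G) * w ∈ A →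
      orderOf (φ w : Equiv.Perm Cfsg.GolayPt) = 2 := fun w hw hw2 => by
    refine orderOf_eq_prime ?_ fun e => hw ((kmem w).1 (Subtype.ext e))
    have e2 := congrArg Subtype.val ((kmem (w * w)).2 hw2)
    rw [map_mul] at e2
    rw [pow_two]
    exact e2
  have conj : ∀ u w : ↥(normalizer (A : Set G)), (u : G) ∉ A → (w : G) ∉ A → (u : G) * u ∈ A → (w : G) * w ∈ A →
      ((∃ p, (φ u : Equiv.Perm Cfsg.GolayPt) p = p) ↔ ∃ p, (φ w : Equiv.Perm Cfsg.GolayPt) p = p) →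
      ∃ m ∈ normalizer (A : Set G), ∃ v ∈ A, m * (u : G) * m⁻¹ = v * w := by
    intro u w hu hw hu2 hw2 e
    obtain ⟨k, hk, ek⟩ := m24_conj_of_type (φ u).2 (φ w).2 (ord u hu hu2) (ord w hw hw2) e
    obtain ⟨m, hm⟩ := hφ ⟨k, hk⟩
    refine ⟨m, m.2, (m : G) * u * (m : G)⁻¹ * (w : G)⁻¹, (kmem (m * u * m⁻¹ * w⁻¹)).1 ?_, ?_⟩
    · rw [map_mul, map_mul, map_mul, map_inv, map_inv, mul_inv_eq_one, hm]
      exact Subtype.ext ek
    · group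
  let a₁ : ↥(normalizer (A : Set G)) := ⟨y₁, h₁⟩
  let a₂ : ↥(normalizer (A : Set G)) := ⟨y₂, h₂⟩
  let a : ↥(normalizer (A : Set G)) := ⟨x, hx⟩
  have q₁ : (a₁ : G) * a₁ ∈ A := by show y₁ * y₁ ∈ A; rw [s₁]; exact A.one_mem
  have q₂ : (a₂ : G) * a₂ ∈ A := by show y₂ * y₂ ∈ A; rw [s₂]; exact A.one_mem
  have d12 : ¬ ((∃ p, (φ a₁ : Equiv.Perm Cfsg.GolayPt) p = p) ↔ ∃ p, (φ a₂ : Equiv.Perm Cfsg.GolayPt) p = p) := by
    intro e
    obtain ⟨m, hm, v, hv, eq⟩ := conj a₁ a₂ n₁ n₂ q₁ q₂ e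
    refine hfix ?_
    have himg : (fun b => m * b * m⁻¹) '' fixIn A y₁ = fixIn A y₂ := by
      have e1 : ∀ b, b ∈ A → (v * y₂) * b * (v * y₂)⁻¹ = y₂ * b * y₂⁻¹ := fun b hb => by
        have hb2 : y₂ * b * y₂⁻¹ ∈ A := (Subgroup.mem_normalizer_iff.1 h₂ b).1 hb
        calc v * y₂ * b * (v * y₂)⁻¹ = v * (y₂ * b * y₂⁻¹) * v⁻¹ := by group
          _ = _ := by rw [h.comm v hv _ hb2, mul_inv_cancel_right]
      ext b
      constructor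
      · rintro ⟨b, ⟨hb, hb'⟩, rfl⟩
        have hmb : m * b * m⁻¹ ∈ A := (Subgroup.mem_normalizer_iff.1 hm b).1 hb
        refine ⟨hmb, ?_⟩
        rw [← e1 _ hmb, ← show m * y₁ * m⁻¹ = v * y₂ from eq]
        calc m * y₁ * m⁻¹ * (m * b * m⁻¹) * (m * y₁ * m⁻¹)⁻¹ = m * (y₁ * b * y₁⁻¹) * m⁻¹ := by group
          _ = _ := by rw [hb']
      · rintro ⟨hb, hb'⟩
        refine ⟨m⁻¹ * b * m, ⟨?_, ?_⟩, by group⟩
        · simpa using (Subgroup.mem_normalizer_iff.1 (inv_mem hm) b).1 hb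
        · rw [← e1 b hb, ← show m * y₁ * m⁻¹ = v * y₂ from eq] at hb'
          calc y₁ * (m⁻¹ * b * m) * y₁⁻¹ = m⁻¹ * (m * y₁ * m⁻¹ * b * (m * y₁ * m⁻¹)⁻¹) * m := by group
            _ = _ := by rw [hb']
    rw [← himg, Set.ncard_image_of_injective]
    intro b c e'
    simpa using e'
  by_cases e : (∃ p, (φ a : Equiv.Perm Cfsg.GolayPt) p = p) ↔ ∃ p, (φ a₁ : Equiv.Perm Cfsg.GolayPt) p = p
  · obtain ⟨m, hm, v, hv, r⟩ := conj a a₁ hxA n₁ hx2 q₁ e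
    exact ⟨m, hm, v, hv, Or.inl r⟩
  · obtain ⟨m, hm, v, hv, r⟩ := conj a a₂ hxA n₂ hx2 q₂ (by tauto)
    exact ⟨m, hm, v, hv, Or.inr r⟩

theorem VFrame.exists_coset_involution (h : VFrame z A) {y₁ y₂ : G}
    (h₁ : y₁ ∈ normalizer (A : Set G)) (h₂ : y₂ ∈ normalizer (A : Set G))
    (s₁ : y₁ * y₁ = 1) (s₂ : y₂ * y₂ = 1) (n₁ : y₁ ∉ A) (n₂ : y₂ ∉ A)
    (hfix : (fixIn A y₁).ncard ≠ (fixIn A y₂).ncard)
    {x : G} (hx : x ∈ normalizer (A : Set G)) (hxA : x ∉ A) (hx2 : x * x ∈ A) :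
    ∃ v ∈ A, v * x * (v * x) = 1 := by
  obtain ⟨m, hm, v, hv, e⟩ := h.exists_conj_coset h₁ h₂ s₁ s₂ n₁ n₂ hfix hx hxA hx2
  obtain ⟨y, hy, e⟩ : ∃ y : G, y * y = 1 ∧ m * x * m⁻¹ = v * y := by
    rcases e with e | e
    exacts [⟨y₁, s₁, e⟩, ⟨y₂, s₂, e⟩]
  have hv' : m⁻¹ * v⁻¹ * m ∈ A := by
    simpa using (Subgroup.mem_normalizer_iff.1 (inv_mem hm) v⁻¹).1 (inv_mem hv)
  refine ⟨m⁻¹ * v⁻¹ * m, hv', ?_⟩
  have e' : m⁻¹ * v⁻¹ * m * x = m⁻¹ * y * m := by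
    calc m⁻¹ * v⁻¹ * m * x = m⁻¹ * v⁻¹ * (m * x * m⁻¹) * m := by group
      _ = _ := by rw [e]; group
  rw [e', show m⁻¹ * y * m * (m⁻¹ * y * m) = m⁻¹ * (y * y) * m by group, hy, mul_one, inv_mul_cancel]

end CfsgLib.J4Type
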