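import Cfsg.Agent.Lib.J4Type.StabWords
import Cfsg.Agent.Lib.J4Type.VSigns
import Cfsg.Agent.Lib.J4Type.VCode

/-!
The finite checks for the complement of the subgroup of order `2^11` in its normaliser.
-/

set_option autoImplicit false
set_option maxRecDepth 20000
set_option maxHeartbeats 4000000

namespace CfsgLib.J4Type.Split

open VCode (liftCols five qCols)

/-- The five-bit action of the product of a word (`false` is `A`). -/
def evF (A C : ℕ → ℕ) : List Bool → ℕ → ℕ
  | [], x => x
  | b :: w, x => (if b then C else A) (evF A C w x)

/-- The five-bit action of the second generator of the Sylow subgroup. -/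
def sF (A C : ℕ → ℕ) (x : ℕ) : ℕ := C (A (C (C (C x))))

/-- No element of the five bits is moved by `f` to its product with the first bit. -/
def noZ (f : ℕ → ℕ) : Bool := (List.range 32).all fun m => !Nat.beq (Nat.xor (f m) m) 1

/-- The six conditions. -/
def allNoZ (A C U : ℕ → ℕ) : Bool :=
  noZ A && noZ (sF A C) && noZ U && noZ (fun m => U (A m)) && noZ (fun m => U (sF A C m)) &&
    noZ (fun m => A (sF A C (A (sF A C m))))

/-- The relations used. -/
def rels (A C U : ℕ → ℕ) : Bool :=
  [1, 2, 4, 8, 16].all fun m => Nat.beq (A (A m)) m && Nat.beq (U (U m)) m &&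
    Nat.beq (U (C (U m))) (evF A C wUC m)

theorem five_cases : ((List.range 16).all fun ea => (List.range 16).all fun ec => (List.range 16).all fun eu =>
    !rels (five arPat ea) (five crPat ec) (five urPat eu) ||
      allNoZ (five arPat ea) (five crPat ec) (five urPat eu)) = true := by
  decide +kernel

theorem five_bound : ((List.range 16).all fun e => (List.range 32).all fun m =>
    Nat.blt (five arPat e m) 32 && Nat.blt (five crPat e m) 32 && Nat.blt (five urPat e m) 32) = true := by
  decide +kernel

theorem five_units : ((List.range 16).all fun e => ([arPat, crPat, urPat] : List (List ℕ)).all fun pat =>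
    (List.range 4).all fun j => Nat.beq (64 * five pat e (2 ^ (j + 1)))
      (Nat.xor (if Nat.testBit e j then 64 else 0) (128 * pat.getD j 0))) = true := by
  decide +kernel

theorem fix_p : ((List.range 32).all fun h => (List.range 64).all fun l =>
    !Nat.beq (app (liftCols colsT [1, 2, 4, 8] 0) (64 * h + l)) (64 * h + l) || Nat.beq l 0) = true := by
  decide +kernel

/-- The number of codes fixed by a translation. -/
def fixCount (v : ℕ) : ℕ :=
  ((List.range 2048).filter fun n => Nat.beq (app (qCols v) n) n).length

theorem fix_counts : Nat.beq (fixCount 64) 128 = true ∧ Nat.beq (fixCount 256) 64 = true := by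
  decide +kernel

theorem qCols_bound : ([64, 256].all fun v => (qCols v).all fun c => Nat.blt c 2048) = true := by
  decide +kernel

/-- The word of the second generator. -/
def wS : List ℕ := [1, 0, 1, 1, 1]

/-- The word of the product of the first two generators. -/
def wR : List ℕ := [0, 1, 0, 1, 1, 1]

/-- The words of the sixteen elements. -/
def wEl (i j k : ℕ) : List ℕ := List.replicate i 3 ++ (List.replicate j wR).flatten ++ List.replicate k 0

theorem sylow_words : ((List.range 2).all fun i => (List.range 4).all fun j => (List.range 2).all fun k =>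
    (i == 0 && j == 0 && k == 0) || (List.range 6).any fun b => !Nat.beq (appW (wEl i j k) (2 ^ b)) (2 ^ b)) = true := by
  decide +kernel

theorem move_words : (([[0], wS, [3], [3, 0], 3 :: wS, wR ++ wR] : List (List ℕ)).all fun w =>
    ((List.range 12).all fun k => Nat.beq (appW (w ++ w) (2 ^ k)) (2 ^ k)) &&
    (List.range 6).any fun b => !Nat.beq (appW w (2 ^ b)) (2 ^ b)) = true := by
  decide +kernel

theorem block_words : (([0, 1, 3] : List ℕ).all fun g => (List.range 6).all fun b =>
    Nat.blt (appW [g] (2 ^ b)) 64 && Nat.beq (appW [g] (64 * 2 ^ b) % 64) 0) = true := by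
  decide +kernel

end CfsgLib.J4Type.Split
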