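import Cfsg.Agent.Lib.J4Type.ToVAct
import Cfsg.Agent.Lib.J4Type.Splitting.Checks

/-!
Elements of the normaliser of the lift of `t` on the five bits fixed by it, and the squares of their
involutory images.
-/

set_option autoImplicit false
set_option linter.unusedSectionVars false
set_option maxRecDepth 20000

namespace CfsgLib.J4Type

open VCode (liftCols five)

universe u

variable {G : Type u} [Group G] [Finite G] {z : G} {P : Subgroup G}

/-- A prime-power twisted action fixes a point in a set of size prime to three. -/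
theorem exists_inv_lift {C : Type*} [Group C] [Finite C] (Q : Subgroup C) [Q.Normal]
    (hQ : ¬ 3 ∣ Nat.card Q) {p : C} (hp : p ^ 3 = 1) {h : C ⧸ Q}
    (hh : h * (QuotientGroup.mk p) * h⁻¹ = (QuotientGroup.mk p)⁻¹) :
    ∃ c : C, QuotientGroup.mk c = h ∧ c * p * c⁻¹ = p⁻¹ := by
  haveI := Fact.mk Nat.prime_three
  let X := {c : C // (QuotientGroup.mk c : C ⧸ Q) = h}
  have hpz : ∀ (k : ℤ), (QuotientGroup.mk p : C ⧸ Q) ^ k * h * (QuotientGroup.mk p) ^ k = h := by
    intro k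
    have e : h * (QuotientGroup.mk p) ^ k * h⁻¹ = ((QuotientGroup.mk p) ^ k)⁻¹ := by
      rw [← conj_zpow, hh, inv_zpow]
    generalize (QuotientGroup.mk p : C ⧸ Q) ^ k = q at e ⊢
    calc q * h * q = q * (h * q * h⁻¹) * h := by group
      _ = h := by rw [e, mul_inv_cancel, one_mul]
  have hz : ∀ (m : Subgroup.zpowers p) (c : X), (QuotientGroup.mk ((m : C) * c * (m : C)) : C ⧸ Q) = h := by
    rintro ⟨m, k, rfl⟩ c
    show (QuotientGroup.mk (p ^ k * (c : C) * p ^ k) : C ⧸ Q) = h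
    rw [QuotientGroup.mk_mul, QuotientGroup.mk_mul, QuotientGroup.mk_zpow, c.2]
    exact hpz k
  letI : MulAction (Subgroup.zpowers p) X :=
    { smul := fun m c => ⟨(m : C) * c * (m : C), hz m c⟩
      one_smul := fun c => Subtype.ext (by show (1 : C) * c * 1 = c; group)
      mul_smul := fun m m' c => Subtype.ext (by
        obtain ⟨m, k, rfl⟩ := m
        obtain ⟨m', l, rfl⟩ := m'
        show p ^ k * p ^ l * c * (p ^ k * p ^ l) = p ^ k * (p ^ l * c * p ^ l) * p ^ k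
        rw [show p ^ k * p ^ l * (c : C) * (p ^ k * p ^ l) = p ^ k * p ^ l * (c : C) * (p ^ l * p ^ k) by
          rw [(Commute.refl p).zpow_zpow k l |>.eq]]
        group) }
  have hP : IsPGroup 3 (Subgroup.zpowers p) := by
    rintro ⟨m, k, rfl⟩
    refine ⟨1, Subtype.ext ?_⟩
    show (p ^ k) ^ (3 ^ 1) = 1
    rw [pow_one, ← zpow_natCast, ← zpow_mul, mul_comm, zpow_mul, zpow_natCast, hp, one_zpow]
  obtain ⟨c0, hc0⟩ := QuotientGroup.mk_surjective h
  have hX : Nat.card X = Nat.card Q := Nat.card_congr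
    { toFun := fun c => ⟨c0⁻¹ * c, QuotientGroup.eq.1 (hc0.trans c.2.symm)⟩
      invFun := fun q => ⟨c0 * q, by
        rw [← hc0]; exact (QuotientGroup.eq.2 (by simp)).symm⟩
      left_inv := fun c => Subtype.ext (by simp)
      right_inv := fun q => Subtype.ext (by simp) }
  obtain ⟨c, hc⟩ := hP.nonempty_fixed_point_of_prime_not_dvd_card X (hX ▸ hQ)
  refine ⟨c, c.2, ?_⟩
  have e : p * c * p = (c : C) := congrArg Subtype.val (hc ⟨p, Subgroup.mem_zpowers p⟩)
  calc (c : C) * p * (c : C)⁻¹ = p⁻¹ * (p * c * p) * (c : C)⁻¹ := by group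
    _ = p⁻¹ := by rw [e, mul_inv_cancel_right]

/-- Exclusive or of five-bit maps. -/
theorem five_xor (pat : List ℕ) (e a b : ℕ) : five pat e (Nat.xor a b) = Nat.xor (five pat e a) (five pat e b) :=
  app_xor _ a b

theorem five_zero (pat : List ℕ) (e : ℕ) : five pat e 0 = 0 := by
  have := five_xor pat e 0 0
  rw [show Nat.xor 0 0 = 0 from rfl] at this
  rw [this]; exact Nat.xor_self _

namespace Lifts

variable {X : Ctx z P} (L : Lifts X)

/-- `x` normalises the subgroup of order three. -/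
def Nrm (x : CC z) : Prop := x * L.p * x⁻¹ = L.p ∨ x * L.p * x⁻¹ = L.p⁻¹

include L

theorem Nrm.of_comm {x : CC z} (h : x * L.p = L.p * x) : L.Nrm x := Or.inl (by rw [h, mul_inv_cancel_right])

theorem Nrm.mul {x y : CC z} (hx : L.Nrm x) (hy : L.Nrm y) : L.Nrm (x * y) := by
  have e : x * y * L.p * (x * y)⁻¹ = x * (y * L.p * y⁻¹) * x⁻¹ := by group
  have ei : x * L.p⁻¹ * x⁻¹ = (x * L.p * x⁻¹)⁻¹ := by group
  unfold Lifts.Nrm at *
  rw [e]
  rcases hy with hy | hy <;> rw [hy]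
  · exact hx
  · rw [ei]
    rcases hx with hx | hx <;> rw [hx]
    · exact Or.inr rfl
    · exact Or.inl (inv_inv _)

theorem Nrm.sq_comm {x : CC z} (hx : L.Nrm x) : Commute (x * x) L.p := by
  have e : x * x * L.p * (x * x)⁻¹ = x * (x * L.p * x⁻¹) * x⁻¹ := by group
  have ei : x * L.p⁻¹ * x⁻¹ = (x * L.p * x⁻¹)⁻¹ := by group
  have h : x * x * L.p * (x * x)⁻¹ = L.p := by
    rw [e]
    rcases hx with hx | hx
    · rw [hx, hx]
    · rw [hx, ei, hx, inv_inv]
  exact mul_inv_eq_iff_eq_mul.1 h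

theorem Nrm.comm_conj {x y : CC z} (hx : L.Nrm x) (hy : y * L.p = L.p * y) :
    x * y * x⁻¹ * L.p = L.p * (x * y * x⁻¹) := by
  have hy' : Commute y L.p := hy
  have h : Commute (x * y * x⁻¹) (x * L.p * x⁻¹) := by
    show x * y * x⁻¹ * (x * L.p * x⁻¹) = x * L.p * x⁻¹ * (x * y * x⁻¹)
    calc x * y * x⁻¹ * (x * L.p * x⁻¹) = x * (y * L.p) * x⁻¹ := by group
      _ = x * (L.p * y) * x⁻¹ := by rw [hy'.eq]
      _ = _ := by group
  rcases hx with e | e <;> rw [e] at h
  · exact h.eq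
  · simpa using h.inv_right.eq

theorem enc_p (hsq : ∀ a ∈ X.VV, a * a = 1) {n : ℕ} (hn : n < 32) :
    L.enc (64 * n) * L.p = L.p * L.enc (64 * n) := by
  obtain ⟨-, h⟩ := L.acts_p hsq n hn
  exact (mul_inv_eq_iff_eq_mul.1 h).symm

/-- An element normalising the subgroup of order three acts on the five bits by its pattern and four signs. -/
theorem acts_of_norm (hsq : ∀ a ∈ X.VV, a * a = 1) {c : CC z} (hc : L.Nrm c) (pat : List ℕ)
    (hpat : ∀ i, i < 4 → pat.getD i 0 < 16)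
    (hfive : ∀ e, e < 16 → (∀ m, m < 32 → five pat e m < 32) ∧ ∀ j, j < 4 → 64 * five pat e (2 ^ (j + 1)) =
      Nat.xor (if Nat.testBit e j then 64 else 0) (128 * pat.getD j 0))
    (hr : ∀ i : Fin 4, (QuotientGroup.mk c : CC z ⧸ QQ z) * X.model.gens.r i * (QuotientGroup.mk c)⁻¹ =
      evR X.model.gens.r (pat.getD i.val 0)) :
    ∃ e, e < 16 ∧ Acts L c (five pat e) := by
  classical
  have key : ∀ i : Fin 4, ∃ b : Bool,
      c * L.ρ i * c⁻¹ = L.enc (Nat.xor (if b then 64 else 0) (128 * pat.getD i.val 0)) := by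
    intro i
    have hp := hpat i.val i.isLt
    have h1 : c * L.ρ i * c⁻¹ * L.p = L.p * (c * L.ρ i * c⁻¹) := Nrm.comm_conj L hc (L.ρ_p i)
    have h2 : L.enc (128 * pat.getD i.val 0) * L.p = L.p * L.enc (128 * pat.getD i.val 0) := by
      rw [show 128 * pat.getD i.val 0 = 64 * (2 * pat.getD i.val 0) by ring]
      exact L.enc_p hsq (by omega)
    have h3 : (QuotientGroup.mk (L.enc (128 * pat.getD i.val 0)) : CC z ⧸ QQ z) =
        QuotientGroup.mk (c * L.ρ i * c⁻¹) := by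
      rw [L.mk_high hsq hp, QuotientGroup.mk_mul, QuotientGroup.mk_mul, QuotientGroup.mk_inv, L.ρ_mk, hr]
    rcases L.unique_lift h2 h1 h3 with h | h
    · exact ⟨false, by rw [if_neg Bool.false_ne_true, h]; exact congrArg L.enc (Nat.zero_xor _).symm⟩
    · refine ⟨true, ?_⟩
      rw [if_pos rfl, L.enc_xor hsq, L.enc_z, Ctx.zc_central, h]
  choose b hb using key
  obtain ⟨e, he⟩ := VCode.four_bits b
  obtain ⟨hlt, hu⟩ := hfive e.val e.isLt
  refine ⟨e.val, e.isLt, fun m hm => ⟨hlt m hm, ?_⟩⟩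
  refine xor_ext (fun a b => a * b) 5 (fun m => c * L.enc (64 * m) * c⁻¹) (fun m => L.enc (64 * five pat e.val m))
    (fun a b _ _ => ?_) (fun a b _ _ => ?_) ?_ (fun i hi => ?_) m hm
  · show c * L.enc (64 * Nat.xor a b) * c⁻¹ = _
    rw [show (64 : ℕ) = 2 ^ 6 by norm_num, mul_xor_distrib, L.enc_xor hsq]; group
  · show L.enc (64 * five pat e.val (Nat.xor a b)) = _
    rw [five_xor, show (64 : ℕ) = 2 ^ 6 by norm_num, mul_xor_distrib, L.enc_xor hsq]
  · show c * L.enc (64 * 0) * c⁻¹ = L.enc (64 * five pat e.val 0)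
    rw [Nat.mul_zero, five_zero, Nat.mul_zero, L.enc_zero, mul_one, mul_inv_cancel]
  · show c * L.enc (64 * 2 ^ i) * c⁻¹ = L.enc (64 * five pat e.val (2 ^ i))
    rcases i with - | j
    · have h0 : five pat e.val (2 ^ 0) = 1 := by
        rw [five, app_two_pow]; rfl
      rw [h0, show 64 * 2 ^ 0 = 64 from rfl, L.enc_z, ← Ctx.zc_central, mul_inv_cancel_right]
    · have hj : j < 4 := by omega
      rw [hu j hj, show 64 * 2 ^ (j + 1) = 128 * 2 ^ j by rw [pow_succ]; ring,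
        show L.enc (128 * 2 ^ j) = L.ρ ⟨j, hj⟩ from L.enc_rho ⟨j, hj⟩, hb ⟨j, hj⟩, he ⟨j, hj⟩]

/-- Two lifts commuting with `p` of elements congruent modulo `t` act alike. -/
theorem acts_eq (hsq : ∀ a ∈ X.VV, a * a = 1) {x y : CC z} (hx : x * L.p = L.p * x) (hy : y * L.p = L.p * y)
    {f g : ℕ → ℕ} (hf : Acts L x f) (hg : Acts L y g) {k : ℕ}
    (h : (QuotientGroup.mk y : CC z ⧸ QQ z) = QuotientGroup.mk x * X.model.gens.t ^ k) :
    ∀ m, m < 32 → f m = g m := by
  intro m hm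
  have hd : Commute (x⁻¹ * y) L.p := (Commute.inv_left (show Commute x L.p from hx)).mul_left hy
  have hid := L.acts_of_mk hsq hd.eq (k := k) (by
    rw [QuotientGroup.mk_mul, QuotientGroup.mk_inv, h, inv_mul_cancel_left])
  obtain ⟨-, h2⟩ := hf.comp hid m hm
  obtain ⟨hg1, h3⟩ := hg m hm
  obtain ⟨hf1, -⟩ := hf m hm
  rw [mul_inv_cancel_left, h3] at h2
  have := L.enc_inj hsq (show 64 * g m < 2048 by omega) (show 64 * (f ∘ id) m < 2048 by show 64 * f m < 2048; omega) h2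
  show f m = g m
  have e : 64 * g m = 64 * f m := this
  omega

theorem p_mem (hsq : ∀ a ∈ X.VV, a * a = 1) {v : CC z} (hv : v ∈ X.VV) : L.p * v * L.p⁻¹ ∈ X.VV := by
  obtain ⟨n, hn, rfl⟩ := L.enc_surj hsq hv
  rw [L.conj_p hsq hn]
  exact L.enc_mem hsq _

/-- If no five-bit vector is moved by `x` to its product with `z`, no element of the big subgroup is. -/
theorem comm_ne_z (hsq : ∀ a ∈ X.VV, a * a = 1) {x : CC z} (hx : L.Nrm x) {f : ℕ → ℕ} (hf : Acts L x f)
    (hno : Split.noZ f = true) {v : CC z} (hv : v ∈ X.VV) (hxv : x * v * x⁻¹ ∈ X.VV)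
    (e : v * (x * v * x⁻¹) = Ctx.zc z) : False := by
  have comm : ∀ a ∈ X.VV, ∀ b ∈ X.VV, a * b = b * a := fun a ha b hb => by
    have inv : ∀ w ∈ X.VV, w⁻¹ = w := fun w hw => inv_eq_of_mul_eq_one_right (hsq w hw)
    rw [← inv _ (mul_mem ha hb), mul_inv_rev, inv _ ha, inv _ hb]
  let c : CC z → CC z := fun w => L.p * w * L.p⁻¹
  let π : CC z → CC z := fun w => w * c w * c (c w)
  have cm : ∀ w ∈ X.VV, c w ∈ X.VV := fun w hw => L.p_mem hsq hw
  have c3 : ∀ w, c (c (c w)) = w := fun w => by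
    show L.p * (L.p * (L.p * w * L.p⁻¹) * L.p⁻¹) * L.p⁻¹ = w
    calc L.p * (L.p * (L.p * w * L.p⁻¹) * L.p⁻¹) * L.p⁻¹ =
          L.p * L.p * L.p * w * (L.p * L.p * L.p)⁻¹ := by group
      _ = w := by rw [show L.p * L.p * L.p = L.p ^ 3 by rw [pow_three, mul_assoc], L.p_three, one_mul,
        inv_one, mul_one]
  have cinv : ∀ w, L.p⁻¹ * w * L.p = c (c w) := fun w => by
    have := c3 (L.p⁻¹ * w * L.p)
    have e1 : c (L.p⁻¹ * w * L.p) = w := by
      show L.p * (L.p⁻¹ * w * L.p) * L.p⁻¹ = w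
      group
    rw [e1] at this
    exact this.symm
  have cmul : ∀ a b, c (a * b) = c a * c b := fun a b => by
    show L.p * (a * b) * L.p⁻¹ = L.p * a * L.p⁻¹ * (L.p * b * L.p⁻¹)
    group
  have πm : ∀ w ∈ X.VV, π w ∈ X.VV := fun w hw => mul_mem (mul_mem hw (cm w hw)) (cm _ (cm w hw))
  have πmul : ∀ a ∈ X.VV, ∀ b ∈ X.VV, π (a * b) = π a * π b := fun a ha b hb => by
    show a * b * c (a * b) * c (c (a * b)) = a * c a * c (c a) * (b * c b * c (c b))
    rw [cmul, cmul]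
    calc a * b * (c a * c b) * (c (c a) * c (c b)) = a * (b * c a) * (c b * c (c a)) * c (c b) := by group
      _ = a * (c a * b) * (c (c a) * c b) * c (c b) := by
        rw [comm b hb _ (cm a ha), comm (c b) (cm b hb) _ (cm _ (cm a ha))]
      _ = a * c a * (b * c (c a)) * c b * c (c b) := by group
      _ = a * c a * (c (c a) * b) * c b * c (c b) := by rw [comm b hb _ (cm _ (cm a ha))]
      _ = _ := by group
  have πx : π (x * v * x⁻¹) = x * π v * x⁻¹ := by
    have hc1 : x * c v * x⁻¹ = x * L.p * x⁻¹ * (x * v * x⁻¹) * (x * L.p * x⁻¹)⁻¹ := by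
      show x * (L.p * v * L.p⁻¹) * x⁻¹ = _
      group
    have hc2 : x * c (c v) * x⁻¹ = x * L.p * x⁻¹ * (x * c v * x⁻¹) * (x * L.p * x⁻¹)⁻¹ := by
      show x * (L.p * c v * L.p⁻¹) * x⁻¹ = _
      group
    have split : x * π v * x⁻¹ = x * v * x⁻¹ * (x * c v * x⁻¹) * (x * c (c v) * x⁻¹) := by
      show x * (v * c v * c (c v)) * x⁻¹ = _
      group
    rw [split, hc2, hc1]
    rcases hx with h | h <;> rw [h]
    · rw [inv_inv]
      have h1 : L.p⁻¹ * (x * v * x⁻¹) * L.p = c (c (x * v * x⁻¹)) := cinv _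
      rw [h1, cinv, c3]
      show x * v * x⁻¹ * c (x * v * x⁻¹) * c (c (x * v * x⁻¹)) = x * v * x⁻¹ * c (c (x * v * x⁻¹)) * c (x * v * x⁻¹)
      rw [mul_assoc, comm _ (cm _ hxv) _ (cm _ (cm _ hxv)), ← mul_assoc]
  have πz : π (Ctx.zc z) = Ctx.zc z := by
    have hcz : c (Ctx.zc z) = Ctx.zc z := by
      show L.p * Ctx.zc z * L.p⁻¹ = _
      rw [← Ctx.zc_central, mul_inv_cancel_right]
    show Ctx.zc z * c _ * c (c _) = _
    rw [hcz, hcz, Ctx.zc_sq X, one_mul]
  have main : π v * (x * π v * x⁻¹) = Ctx.zc z := by rw [← πx, ← πmul v hv _ hxv, e, πz]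
  obtain ⟨n, hn, hπ⟩ := L.enc_surj hsq (πm v hv)
  have hfix : c (π v) = π v := by
    show c (v * c v * c (c v)) = v * c v * c (c v)
    rw [cmul, cmul, c3, comm _ (mul_mem (cm v hv) (cm _ (cm v hv))) v hv, ← mul_assoc]
  have hn64 : app (liftCols colsT [1, 2, 4, 8] 0) n = n := by
    have h := L.conj_p hsq hn
    rw [hπ, show L.p * π v * L.p⁻¹ = c (π v) from rfl, hfix, ← hπ] at h
    refine (L.enc_inj hsq hn ?_ h).symm
    exact app_lt (k := 11) _ _ (by decide)
  have hl : n % 64 = 0 := by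
    have h := List.all_eq_true.1 (List.all_eq_true.1 Split.fix_p (n / 64) (List.mem_range.2 (by omega))) (n % 64)
      (List.mem_range.2 (Nat.mod_lt _ (by norm_num)))
    rw [show 64 * (n / 64) + n % 64 = n from Nat.div_add_mod n 64, hn64, Nat.beq_refl, Bool.not_true,
      Bool.false_or] at h
    exact Nat.eq_of_beq_eq_true h
  obtain ⟨q, rfl⟩ : ∃ q, n = 64 * q := ⟨n / 64, by omega⟩
  obtain ⟨hfl, hfc⟩ := hf q (by omega)
  rw [← hπ, hfc, ← L.enc_xor hsq, ← L.enc_z] at main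
  have hlt : Nat.xor (64 * q) (64 * f q) < 2048 := Nat.xor_lt_two_pow (n := 11) (by omega) (by omega)
  have h64 := L.enc_inj hsq hlt (by norm_num) main
  rw [show (64 : ℕ) = 2 ^ 6 by norm_num, ← mul_xor_distrib] at h64
  have hno' := List.all_eq_true.1 hno q (List.mem_range.2 (by omega))
  rw [Bool.not_eq_true'] at hno'
  refine Nat.ne_of_beq_eq_false hno' ?_
  show Nat.xor (f q) q = 1
  rw [show Nat.xor (f q) q = Nat.xor q (f q) from Nat.xor_comm _ _]
  omega

/-- An element normalising the subgroup of order three with involutory image squares to `1` or `z`. -/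
theorem sq_cases {x : CC z} (hx : L.Nrm x)
    (h : (QuotientGroup.mk x : CC z ⧸ QQ z) * QuotientGroup.mk x = 1) : x * x = 1 ∨ x * x = Ctx.zc z := by
  rcases L.unique_lift (show (1 : CC z) * L.p = L.p * 1 by rw [one_mul, mul_one]) (Nrm.sq_comm L hx).eq
      (by rw [QuotientGroup.mk_mul, h, QuotientGroup.mk_one]) with e | e
  · exact Or.inl e
  · exact Or.inr (by rw [e, one_mul])

/-- If the coset of `x` contains an involution, `x` is one. -/
theorem sq_one (hsq : ∀ a ∈ X.VV, a * a = 1) {x : CC z} (hx : L.Nrm x) {f : ℕ → ℕ} (hf : Acts L x f)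
    (hno : Split.noZ f = true) (h : (QuotientGroup.mk x : CC z ⧸ QQ z) * QuotientGroup.mk x = 1)
    (hnorm : ∀ v ∈ X.VV, x * v * x⁻¹ ∈ X.VV) (hex : ∃ v ∈ X.VV, v * x * (v * x) = 1) : x * x = 1 := by
  refine (L.sq_cases hx h).resolve_right fun hz => ?_
  obtain ⟨v, hv, e⟩ := hex
  refine L.comm_ne_z hsq hx hf hno hv (hnorm v hv) ?_
  have e1 : v * (x * v * x⁻¹) * (x * x) = 1 := by rw [← e]; group
  rw [hz] at e1
  have h2 := eq_inv_of_mul_eq_one_left e1
  rw [h2, inv_eq_of_mul_eq_one_right (Ctx.zc_sq X)]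

end Lifts

end CfsgLib.J4Type
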